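import Cfsg.Agent.Lib.SingerTwo.Structure

/-!
Classification of the 2-groups of `Layers.lean`.
-/

set_option autoImplicit false
set_option linter.unusedSectionVars false

namespace Cfsg.Agent.Lib.SingerTwo

universe u

variable {F : Type} [Field F] [Fintype F] [CharP F 2]

namespace Data

variable {Q : Type u} [Group Q] [Finite Q] (D : Data F Q)

/-- Many layers and abelian quotient: abelian. -/
theorem comm_of_quot_comm (hne : ∃ x, D.f x ≠ 1) (hW : ∀ a b : Q ⧸ D.Cs, a * b = b * a)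
    (hc : Nat.card F ^ 3 ≤ Nat.card (Q ⧸ D.Cs)) : ∀ x y : Q, x * y = y * x := by
  classical
  set D' := D.quot hne with hD'
  have hK := D.mem_of_comm_quot hW
  have hq := card_F_pos (F := F)
  have hfhom : ∀ a b, D'.f (a * b) = D'.f a * D'.f b := fun a b =>
    D'.f_mul_of_central b (Subgroup.mem_center_iff.mpr fun g => hW g _)
  let ε : (Q ⧸ D.Cs) →* (Q ⧸ D.Cs) := MonoidHom.mk' D'.f hfhom
  have hεpow : ∀ w (j : ℕ), D'.f (w ^ j) = D'.f w ^ j := fun w j => map_pow ε w j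
  obtain ⟨w, hw⟩ : ∃ w, D'.f (D'.f w) ≠ 1 := by
    by_contra h
    push Not at h
    have hker : ε.ker = D'.Cs := Subgroup.ext fun x => D'.f_eq_one
    have hle : ε.range ≤ D'.Cs := by
      rintro _ ⟨w, rfl⟩
      exact D'.f_eq_one.mp (h w)
    have hcr := Subgroup.card_le_of_le hle
    have hcard := Subgroup.card_eq_card_quotient_mul_card_subgroup ε.ker
    rw [Nat.card_congr (QuotientGroup.quotientKerEquivRange ε).toEquiv, hker, D'.card_Cs] at hcard
    rw [D'.card_Cs] at hcr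
    have h3 : Nat.card F ^ 2 < Nat.card F ^ 3 := Nat.pow_lt_pow_right hq (by omega)
    have h4 := Nat.mul_le_mul_right (Nat.card F) hcr
    rw [← hcard, ← pow_two] at h4
    omega
  obtain ⟨j, a, ha, hj⟩ := D'.exists_fix_power _ (D'.α_f (D'.f w)) hw
  -- squares are central
  have hsqc : ∀ y : Q, y * y ∈ Subgroup.center Q := fun y => Subgroup.mem_center_iff.mpr fun g => by
    rw [D.K_spec hK (y * y) g, D.K_add_left hK, CharTwo.add_self_eq_zero, c_zero, one_mul]
  -- the second layer is central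
  have hQ2 : ∀ (z : Q) (b : F), D.f z = D.c b → z ∈ Subgroup.center Q := by
    intro z b hb
    by_cases hb' : b = 0
    · obtain ⟨e, rfl⟩ := D.f_eq_one.mp (show D.f z = 1 by rw [hb, hb', c_zero])
      exact D.central_c e
    obtain ⟨t, ht⟩ := exists_unit ha hb'
    obtain ⟨v, hv⟩ := QuotientGroup.mk_surjective (D'.Φ t (w ^ j))
    have e : (z : Q ⧸ D.Cs) = ((D.f v)⁻¹ * (D.f v)⁻¹ : Q) := by
      rw [D.quot_c hne hb, ← hD', ← ht, ← D'.c_smul, hj, ← hεpow, ← hεpow, ← D'.f_Φ, ← D'.f_Φ, ← hv,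
        f_f, hD', D.quot_f hne]
      rfl
    obtain ⟨d, hd⟩ := QuotientGroup.eq.mp e.symm
    rw [show z = (D.f v)⁻¹ * (D.f v)⁻¹ * D.c d by rw [hd, mul_inv_cancel_left]]
    exact mul_mem (hsqc _) (D.central_c d)
  have hfc : ∀ x, D.f x ∈ Subgroup.center Q := fun x => by
    have h1 : D'.f ((D.f x * (x * x) : Q) : Q ⧸ D.Cs) = 1 := by
      rw [QuotientGroup.mk_mul, QuotientGroup.mk_mul, ← D.quot_f hne, ← hD', hfhom, hfhom, f_f]
      group
    rw [D.quot_f hne, QuotientGroup.eq_one_iff] at h1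
    obtain ⟨b, hb⟩ := h1
    have h2 := hQ2 _ b hb.symm
    have h3 := mul_mem h2 (inv_mem (hsqc x))
    rwa [mul_inv_cancel_right] at h3
  have hf : ∀ x y, D.f (x * y) = D.f x * D.f y := fun x y => D.f_mul_of_central y (hfc x)
  let fh : Q →* Q := MonoidHom.mk' D.f hf
  obtain ⟨K, hK0⟩ : ∃ K : ℕ, ∀ x, D.f x ^ 2 ^ K = 1 := by
    haveI : Fact (Nat.Prime 2) := ⟨Nat.prime_two⟩
    obtain ⟨m, hm⟩ := IsPGroup.iff_card.mp D.two
    exact ⟨m, fun x => by rw [← hm]; exact pow_card_eq_one'⟩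
  have hex : ∃ K : ℕ, ∀ x, D.f x ^ 2 ^ K = 1 := ⟨K, hK0⟩
  obtain ⟨k, hk⟩ : ∃ k, Nat.find hex = k + 1 := by
    refine ⟨Nat.find hex - 1, (Nat.succ_pred_eq_of_ne_zero fun h => ?_).symm⟩
    obtain ⟨x, hx⟩ := hne
    have := Nat.find_spec hex x
    rw [h, pow_zero, pow_one] at this
    exact hx this
  have hk1 : ∀ x, D.f x ^ 2 ^ (k + 1) = 1 := hk ▸ Nat.find_spec hex
  have hk2 : ∃ x, D.f x ^ 2 ^ k ≠ 1 := by
    by_contra h
    push Not at h
    have := Nat.find_min' hex h
    omega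
  have hfix : ∀ x, ∃ b, D.c b = D.f x ^ 2 ^ k := fun x => (D.c_fix _).mp (by
    rw [map_pow, α_f, inv_pow]
    exact inv_eq_of_mul_eq_one_left (by rw [← pow_add, ← two_mul, ← pow_succ', hk1]))
  choose h hh using hfix
  have hadd : ∀ x y, h (x * y) = h x + h y := fun x y => D.c_inj (by
    rw [hh, D.c_add, hh, hh, hf,
      (show Commute (D.f x) (D.f y) from (Subgroup.mem_center_iff.mp (hfc y)) _).mul_pow])
  have hΦ : ∀ t x, h (D.Φ t x) = (t : F) * h x := fun t x => D.c_inj (by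
    rw [hh, f_Φ, ← D.c_smul, hh, map_pow])
  obtain ⟨x0, hx0⟩ := hk2
  have hx00 : h x0 ≠ 0 := fun e => hx0 (by rw [← hh, e, c_zero])
  have hsurj : Function.Surjective h := fun b => by
    by_cases hb : b = 0
    · exact ⟨1, D.c_inj (by rw [hh, f_one, one_pow, hb, c_zero])⟩
    obtain ⟨t, ht⟩ := exists_unit hx00 hb
    exact ⟨D.Φ t x0, by rw [hΦ, ht]⟩
  let φ : Q →* Multiplicative F :=
    MonoidHom.mk' (fun x => Multiplicative.ofAdd (h x)) fun x y => by rw [hadd, ofAdd_add]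
  have hle : fh.range ≤ φ.ker := by
    rintro _ ⟨x, rfl⟩
    change Multiplicative.ofAdd (h (D.f x)) = 1
    rw [ofAdd_eq_one, ← D.c_eq_one, hh, f_f, ← mul_inv_rev, inv_pow, ← pow_two, ← pow_mul,
      ← pow_succ', hk1, inv_one]
  have hcard : Nat.card φ.ker ≤ Nat.card fh.range := by
    have hφs : Function.Surjective φ := fun b => by
      obtain ⟨x, hx⟩ := hsurj b.toAdd
      exact ⟨x, by change Multiplicative.ofAdd (h x) = b; rw [hx, ofAdd_toAdd]⟩
    have h1 := Subgroup.card_eq_card_quotient_mul_card_subgroup φ.ker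
    rw [Nat.card_congr (QuotientGroup.quotientKerEquivOfSurjective φ hφs).toEquiv,
      Nat.card_congr (Multiplicative.toAdd (α := F))] at h1
    have h2 := Subgroup.card_eq_card_quotient_mul_card_subgroup fh.ker
    rw [Nat.card_congr (QuotientGroup.quotientKerEquivRange fh).toEquiv,
      show fh.ker = D.Cs from Subgroup.ext fun x => D.f_eq_one, D.card_Cs, h1, mul_comm] at h2
    exact (Nat.eq_of_mul_eq_mul_right (by omega) h2).le
  have heq := Subgroup.eq_of_le_of_card_ge hle hcard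
  refine D.comm_of_top hK h hadd hΦ hsurj fun x hx => ?_
  obtain ⟨y, hy⟩ : x ∈ fh.range := heq ▸ (show Multiplicative.ofAdd (h x) = 1 by rw [hx, ofAdd_zero])
  exact hy ▸ hfc y

/-- Four layers are impossible. -/
theorem false_of_quot_struct (h2F : 2 < Nat.card F) (hne : ∃ x, D.f x ≠ 1)
    (hs : (D.quot hne).Struct)
    (hIH : ∀ (N : Subgroup Q) (D' : Data F N), Nat.card N < Nat.card Q →
      (¬ ∀ x y : N, x * y = y * x) → D'.Struct) : False := by
  classical
  set D' := D.quot hne with hD'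
  obtain ⟨T, π, hadd, hsurj, hker, hsq, hA⟩ := hs
  have hπ1 : π 1 = 0 := (hker 1).mpr ⟨0, D'.c_zero⟩
  let φ : Q →* Multiplicative F := MonoidHom.mk' (fun x => Multiplicative.ofAdd (π (x : Q ⧸ D.Cs)).1)
    fun x y => by rw [QuotientGroup.mk_mul, hadd, Prod.fst_add, ofAdd_add]
  have hN : ∀ x, x ∈ φ.ker ↔ D'.f (D'.f (x : Q ⧸ D.Cs)) = 1 := fun x => by
    rw [← hA, MonoidHom.mem_ker]
    exact ofAdd_eq_one
  have hcN : ∀ a, D.c a ∈ φ.ker := fun a => by
    rw [hN, show ((D.c a : Q) : Q ⧸ D.Cs) = 1 from (QuotientGroup.eq_one_iff _).mpr ⟨a, rfl⟩,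
      f_one, f_one]
  have hαN : ∀ x ∈ φ.ker, D.α x ∈ φ.ker := fun x hx => by
    rw [hN] at hx ⊢
    rw [← D.quot_α hne, ← hD', f_α, f_α, hx, map_one]
  have hΦN : ∀ t, ∀ x ∈ φ.ker, D.Φ t x ∈ φ.ker := fun t x hx => by
    rw [hN] at hx ⊢
    rw [← D.quot_Φ hne, ← hD', f_Φ, f_Φ, hx, map_one]
  have hlt : Nat.card φ.ker < Nat.card Q := by
    refine lt_of_le_of_ne (Subgroup.card_le_card_group _) fun e => ?_
    obtain ⟨w, hw⟩ := hsurj (1, 0)
    obtain ⟨x, rfl⟩ := QuotientGroup.mk_surjective w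
    have hx : x ∈ φ.ker := by rw [(Subgroup.card_eq_iff_eq_top _).mp e]; exact Subgroup.mem_top x
    have := ofAdd_eq_one.mp hx
    rw [hw] at this
    exact one_ne_zero this
  obtain ⟨y0w, hy0⟩ := hsurj (0, 1)
  obtain ⟨y0, rfl⟩ := QuotientGroup.mk_surjective y0w
  have hsq0 : ∀ b, (T * (0 : F) ^ 2 + 0 * b + b ^ 2) = b ^ 2 := fun b => by ring
  have hcomm : ∀ x y : φ.ker, x * y = y * x := by
    by_contra hnc
    set D3 := D.restrict φ.ker hαN hΦN hcN
    obtain ⟨T3, π3, -, -, -, hsq3, -⟩ := hIH _ D3 hlt hnc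
    have hy0N : y0 ∈ φ.ker := by
      change Multiplicative.ofAdd (π (y0 : Q ⧸ D.Cs)).1 = 1
      rw [hy0, ofAdd_zero]
    have h3 : ∃ a, D.c a = y0 * y0 := ⟨_, (congrArg Subtype.val (hsq3 ⟨y0, hy0N⟩)).symm⟩
    have h4 := hsq (y0 : Q ⧸ D.Cs)
    rw [hy0, hsq0, one_pow, ← QuotientGroup.mk_mul, (QuotientGroup.eq_one_iff _).mpr h3] at h4
    exact one_ne_zero (D'.c_eq_one.mp h4.symm)
  have hyy : ∃ y, D.f (D.f y) ≠ 1 ∧ D.f (D.f (D.f y)) = 1 := by
    have hf0 : D'.f (y0 : Q ⧸ D.Cs) ≠ 1 := fun e => by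
      have := (hker _).mpr (D'.f_eq_one.mp e)
      rw [hy0] at this
      exact one_ne_zero (congrArg Prod.snd this)
    have hff0 : D'.f (D'.f (y0 : Q ⧸ D.Cs)) = 1 := (hA _).mp (by rw [hy0])
    refine ⟨y0, fun e => hf0 ?_, ?_⟩
    · rw [D.quot_f hne]
      exact (QuotientGroup.eq_one_iff _).mpr (D.f_eq_one.mp e)
    · rw [D.quot_f hne, D.quot_f hne, QuotientGroup.eq_one_iff] at hff0
      exact D.f_eq_one.mpr hff0
  -- an element with square outside the fixed points
  obtain ⟨b, hb⟩ : ∃ b : F, T + b + b ^ 2 ≠ 0 := by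
    by_cases hT : T = 0
    · haveI : Fintype F := inferInstance
      rw [Nat.card_eq_fintype_card, Fintype.two_lt_card_iff] at h2F
      obtain ⟨u, v, w, huv, huw, hvw⟩ := h2F
      have : ∃ b : F, b ≠ 0 ∧ b ≠ 1 := by
        by_contra h
        push Not at h
        by_cases hu : u = 0
        · have hv := h v (hu ▸ huv.symm)
          have hw := h w (hu ▸ huw.symm)
          exact hvw (hv.trans hw.symm)
        · have hu1 := h u hu
          by_cases hv : v = 0
          · have hw := h w (hv ▸ hvw.symm)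
            exact huw (hu1.trans hw.symm)
          · exact huv (hu1.trans (h v hv).symm)
      obtain ⟨b, hb0, hb1⟩ := this
      refine ⟨b, fun e => ?_⟩
      rw [hT, zero_add] at e
      have e2 : b * (1 + b) = 0 := by linear_combination e
      exact hb1 (CharTwo.add_eq_zero.mp ((mul_eq_zero.mp e2).resolve_left hb0)).symm
    · exact ⟨0, by simpa using hT⟩
  obtain ⟨xw, hx⟩ := hsurj (1, b)
  obtain ⟨x, rfl⟩ := QuotientGroup.mk_surjective xw
  obtain ⟨r, hr⟩ := surjective_frobenius F 2 (T + b + b ^ 2)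
  rw [frobenius_def] at hr
  obtain ⟨yw, hy⟩ := hsurj (0, r)
  obtain ⟨y, rfl⟩ := QuotientGroup.mk_surjective yw
  have hyN : y ∈ φ.ker := by
    change Multiplicative.ofAdd (π (y : Q ⧸ D.Cs)).1 = 1
    rw [hy, ofAdd_zero]
  have hxx : ((x * x : Q) : Q ⧸ D.Cs) = D'.c (T + b + b ^ 2) := by
    rw [QuotientGroup.mk_mul, hsq, hx, one_pow, mul_one, one_mul]
  have hy2 : ((y * y : Q) : Q ⧸ D.Cs) = D'.c (T + b + b ^ 2) := by
    rw [QuotientGroup.mk_mul, hsq, hy, hsq0, hr]
  obtain ⟨d, hd⟩ := QuotientGroup.eq.mp (hxx.trans hy2.symm)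
  have hyx : x * (y * y) = y * y * x := by
    rw [show y * y = x * x * D.c d by rw [hd, mul_inv_cancel_left], mul_assoc (x * x),
      D.c_central d x]
    simp only [mul_assoc]
  -- the commutator of `x` and `y`
  set k := x * y * x⁻¹ * y⁻¹ with hk
  have hπi : ∀ v, π v⁻¹ = π v := fun v => by
    have h := hadd v v⁻¹
    rw [mul_inv_cancel, hπ1] at h
    exact (eq_neg_of_add_eq_zero_right h.symm).trans (by
      ext <;> simp [CharTwo.neg_eq])
  have hπk : π (k : Q ⧸ D.Cs) = 0 := by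
    simp only [hk, QuotientGroup.mk_mul, QuotientGroup.mk_inv, hadd, hπi]
    ext <;> simp <;> ring_nf <;> simp [CharTwo.two_eq_zero]
  obtain ⟨a, ha⟩ := (hker _).mp hπk
  have hfk : D.f k = D.c a := (D.quot_c_iff hne).mp ha.symm
  have hkN : k ∈ φ.ker := by
    change Multiplicative.ofAdd (π (k : Q ⧸ D.Cs)).1 = 1
    rw [hπk, Prod.fst_zero, ofAdd_zero]
  have hkk : k * k = 1 := by
    have e1 : x * y * x⁻¹ = k * y := by rw [hk, inv_mul_cancel_right]
    have e2 : k * y * (k * y) = y * y := by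
      rw [← e1]
      have e : x * y * x⁻¹ * (x * y * x⁻¹) = x * (y * y) * x⁻¹ := by group
      rw [e, hyx, mul_inv_cancel_right]
    have hc : y * k = k * y := congrArg Subtype.val (hcomm ⟨y, hyN⟩ ⟨k, hkN⟩)
    rw [mul_assoc k y, ← mul_assoc y k y, hc, mul_assoc k y, ← mul_assoc k k] at e2
    exact mul_eq_right.mp e2
  have ha0 : a = 0 := by rw [← D.c_eq_one, ← D.sq_eq_f hyy hfk, hkk]
  have hxy : (x : Q ⧸ D.Cs) * y = y * x := by
    rw [ha0, D'.c_zero] at ha
    simp only [hk, QuotientGroup.mk_mul, QuotientGroup.mk_inv] at ha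
    rw [eq_comm, mul_inv_eq_one, mul_inv_eq_iff_eq_mul] at ha
    exact ha
  have e3 : ((x : Q ⧸ D.Cs) * y) * ((x : Q ⧸ D.Cs) * y) =
      ((x : Q ⧸ D.Cs) * x) * ((y : Q ⧸ D.Cs) * y) := Commute.mul_mul_mul_comm hxy.symm _ _
  rw [hsq, hsq, hsq, ← D'.c_add, hadd, hx, hy, Prod.mk_add_mk, add_zero] at e3
  have e4 : r = 0 := by
    have := D'.c_inj e3
    linear_combination this - (b * r) * CharTwo.two_eq_zero (R := F)
  rw [e4, zero_pow two_ne_zero] at hr
  exact hb hr.symm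

/-- The classification. -/
theorem classify (h2F : 2 < Nat.card F) : ∀ (N : ℕ) {Q : Type u} [Group Q] [Finite Q]
    (D : Data F Q), Nat.card Q ≤ N → ∃ k, Nat.card Q = Nat.card F ^ k ∧
      ((¬ ∀ x y : Q, x * y = y * x) → k = 3 ∧ D.Struct) := by
  intro N
  induction N with
  | zero => intro Q _ _ D h; exact absurd h (by have := Nat.card_pos (α := Q); omega)
  | succ N ih =>
    intro Q _ _ D hle
    by_cases hne : ∃ x, D.f x ≠ 1
    swap
    · push Not at hne
      have hall : ∀ x : Q, x ∈ D.Cs := fun x => D.f_eq_one.mp (hne x)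
      refine ⟨1, ?_, fun h => (h fun x y => ?_).elim⟩
      · rw [pow_one, ← D.card_Cs, (Subgroup.eq_top_iff' _).mpr hall]
        exact (Nat.card_congr Subgroup.topEquiv.toEquiv).symm
      · obtain ⟨a, rfl⟩ := hall x
        exact D.c_central a y
    · have hcq := D.card_eq
      have hq := card_F_pos (F := F)
      have hlt : Nat.card (Q ⧸ D.Cs) < Nat.card Q := by
        rw [hcq]; exact lt_mul_of_one_lt_right Nat.card_pos hq
      obtain ⟨k, hk, hk'⟩ := ih (D.quot hne) (by omega)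
      refine ⟨k + 1, by rw [hcq, hk, pow_succ], fun hnc => ?_⟩
      by_cases hW : ∀ a b : Q ⧸ D.Cs, a * b = b * a
      · match k with
        | 0 =>
          exfalso
          rw [pow_zero, Nat.card_eq_one_iff_unique] at hk
          obtain ⟨x, hx⟩ := hne
          haveI := hk.1
          exact hx (D.f_eq_one.mpr ((QuotientGroup.eq_one_iff (N := D.Cs) x).mp (Subsingleton.elim _ _)))
        | 1 => exact absurd (D.comm_of_card_quot_eq hne (by rw [hk, pow_one])) hnc
        | 2 => exact ⟨rfl, D.struct_of_card hne hW hk hnc⟩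
        | j + 3 =>
          refine absurd (D.comm_of_quot_comm hne hW ?_) hnc
          rw [hk]
          exact Nat.pow_le_pow_right (by omega) (by omega)
      · obtain ⟨-, hs⟩ := hk' hW
        refine (D.false_of_quot_struct h2F hne hs fun M D' hM hnc' => ?_).elim
        obtain ⟨j, -, hj⟩ := ih D' (by omega)
        exact (hj hnc').2

end Data

end Cfsg.Agent.Lib.SingerTwo
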