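import Cfsg.Agent.Lib.SingerTwo.Sq
import Mathlib.GroupTheory.PGroup
import Mathlib.GroupTheory.GroupAction.ConjAct
import Mathlib.FieldTheory.Finite.Basic
import Mathlib.FieldTheory.Perfect
import Mathlib.Algebra.CharP.Two
import Mathlib.Algebra.Group.End

/-!
2-groups with commuting automorphisms `α` (an involution whose fixed points are a copy of the
additive group of a finite field `F`) and an action of `Fˣ` extending multiplication on the fixed
points.
-/

set_option autoImplicit false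
set_option linter.unusedSectionVars false

namespace Cfsg.Agent.Lib.SingerTwo

universe u

/-- The hypotheses. -/
structure Data (F : Type) [Field F] (Q : Type u) [Group Q] where
  /-- the involution -/
  α : MulAut Q
  /-- the Singer cycle -/
  Φ : Fˣ →* MulAut Q
  /-- the fixed points -/
  c : F → Q
  α2 : ∀ x, α (α x) = x
  comm : ∀ t x, α (Φ t x) = Φ t (α x)
  c_add : ∀ a b, c (a + b) = c a * c b
  c_inj : Function.Injective c
  c_fix : ∀ x, α x = x ↔ ∃ a, c a = x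
  c_smul : ∀ t a, Φ t (c a) = c ((t : F) * a)
  two : IsPGroup 2 Q

variable {F : Type} [Field F] [Fintype F] [CharP F 2]

theorem pairing_symm_shift (B : F → F → F) (hl : ∀ a a' b, B (a + a') b = B a b + B a' b)
    (hr : ∀ a b b', B a (b + b') = B a b + B a b')
    (hs : ∀ t a b, t ≠ 0 → B (t * a) (t * b) = t * B a b) :
    ∀ s a b, B (s * a) b = B a (s * b) := by
  have h0 : B 0 0 = 0 := by
    have h := hl 0 0 0
    rw [add_zero] at h
    simpa using h
  have hs' : ∀ t a b, B (t * a) (t * b) = t * B a b := fun t a b => by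
    by_cases ht : t = 0
    · simp [ht, h0]
    · exact hs t a b ht
  intro s a b
  have h := hs' (s + 1) a b
  rw [add_mul, add_mul, add_mul, one_mul, one_mul, one_mul, hl, hr, hr, hs'] at h
  linear_combination h - (B a (s * b)) * CharTwo.two_eq_zero (R := F)

theorem pairing_alt (B : F → F → F) (hl : ∀ a a' b, B (a + a') b = B a b + B a' b)
    (hr : ∀ a b b', B a (b + b') = B a b + B a b')
    (hs : ∀ t a b, t ≠ 0 → B (t * a) (t * b) = t * B a b) (h0 : ∀ a, B a a = 0) :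
    ∀ a b, B a b = 0 := by
  intro a b
  obtain ⟨r, hr'⟩ := surjective_frobenius F 2 (a * b)
  rw [frobenius_def, pow_two] at hr'
  have h := pairing_symm_shift B hl hr hs a 1 b
  rw [mul_one, ← hr'] at h
  rw [h, ← pairing_symm_shift B hl hr hs r 1 r, mul_one, h0]

theorem pairing_sq (B : F → F → F) (hl : ∀ a a' b, B (a + a') b = B a b + B a' b)
    (hr : ∀ a b b', B a (b + b') = B a b + B a b')
    (hs : ∀ t a b, t ≠ 0 → B (t * a) (t * b) = t * B a b) :
    ∀ a b, B a b ^ 2 = B 1 1 ^ 2 * (a * b) := by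
  intro a b
  obtain ⟨r, hr'⟩ := surjective_frobenius F 2 (a * b)
  rw [frobenius_def] at hr'
  have h := pairing_symm_shift B hl hr hs a 1 b
  rw [mul_one, ← hr', pow_two] at h
  rw [h, ← pairing_symm_shift B hl hr hs r 1 r, ← hr']
  by_cases hr0 : r = 0
  · have h00 : B 0 0 = 0 := by
      have h2 := hl 0 0 0
      rw [add_zero] at h2
      simpa using h2
    simp [hr0, h00]
  · have h2 := hs r 1 1 hr0
    rw [mul_one] at h2 ⊢
    rw [h2]
    ring

namespace Data

variable {Q : Type u} [Group Q] [Finite Q] (D : Data F Q)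

/-- `x ↦ x⁻¹ α x` -/
def f (x : Q) : Q := x⁻¹ * D.α x

theorem α_eq (x : Q) : D.α x = x * D.f x := (mul_inv_cancel_left x _).symm

theorem α_f (x : Q) : D.α (D.f x) = (D.f x)⁻¹ := by
  simp only [f, map_mul, map_inv, D.α2, mul_inv_rev, inv_inv]

theorem f_f (x : Q) : D.f (D.f x) = (D.f x)⁻¹ * (D.f x)⁻¹ := by
  conv_lhs => rw [f, α_f]

theorem f_Φ (t : Fˣ) (x : Q) : D.f (D.Φ t x) = D.Φ t (D.f x) := by
  simp only [f, map_mul, map_inv, D.comm]

theorem f_α (x : Q) : D.f (D.α x) = D.α (D.f x) := by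
  simp only [f, map_mul, map_inv]

theorem f_mul (x y : Q) : D.f (x * y) = y⁻¹ * D.f x * y * D.f y := by
  simp only [f, map_mul]
  group

theorem c_zero : D.c 0 = 1 := by
  simpa using (D.c_add 0 0).symm

theorem c_eq_one {a : F} : D.c a = 1 ↔ a = 0 := by
  rw [← D.c_zero, D.c_inj.eq_iff]

theorem c_sq (a : F) : D.c a * D.c a = 1 := by
  rw [← D.c_add, CharTwo.add_self_eq_zero, c_zero]

theorem c_inv (a : F) : (D.c a)⁻¹ = D.c a := inv_eq_of_mul_eq_one_left (D.c_sq a)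

theorem α_c (a : F) : D.α (D.c a) = D.c a := (D.c_fix _).mpr ⟨a, rfl⟩

theorem f_c (a : F) : D.f (D.c a) = 1 := by rw [f, α_c, inv_mul_cancel]

theorem f_one : D.f 1 = 1 := by rw [f, map_one, inv_one, one_mul]

theorem f_eq_one {x : Q} : D.f x = 1 ↔ ∃ a, D.c a = x := by
  rw [← D.c_fix, f, inv_mul_eq_one, eq_comm]

theorem exists_two_pow (D : Data F Q) (x : Q) : ∃ k : ℕ, x ^ 2 ^ k = 1 := D.two x

theorem exists_fix_power (u : Q) (hu : D.α u = u⁻¹) (h1 : u ≠ 1) :
    ∃ (j : ℕ) (a : F), a ≠ 0 ∧ D.c a = u ^ j := by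
  obtain ⟨k, hk⟩ := D.exists_two_pow u
  induction k generalizing u with
  | zero => simp at hk; exact absurd hk h1
  | succ k ih =>
    by_cases h2 : u ^ 2 = 1
    · obtain ⟨a, ha⟩ := (D.c_fix u).mp (by
        rw [hu]
        exact inv_eq_of_mul_eq_one_left (by rw [← pow_two, h2]))
      exact ⟨1, a, fun e => h1 (by rw [← ha, e, c_zero]), by rw [pow_one, ha]⟩
    · obtain ⟨j, a, ha, he⟩ := ih (u ^ 2) (by rw [map_pow, hu, inv_pow]) h2
        (by rw [← pow_mul, ← pow_succ', hk])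
      exact ⟨2 * j, a, ha, by rw [he, pow_mul]⟩

/-- `Fˣ` moves a nonzero field element to any other -/
theorem exists_unit {a b : F} (ha : a ≠ 0) (hb : b ≠ 0) : ∃ t : Fˣ, (t : F) * a = b :=
  ⟨Units.mk0 (b / a) (div_ne_zero hb ha), div_mul_cancel₀ b ha⟩

theorem c_central (a : F) (x : Q) : D.c a * x = x * D.c a := by
  suffices h : D.c a ∈ Subgroup.center Q from ((Subgroup.mem_center_iff.mp h) x).symm
  by_cases ha : a = 0
  · rw [ha, c_zero]; exact one_mem _
  haveI : Fact (Nat.Prime 2) := ⟨Nat.prime_two⟩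
  haveI : Nontrivial Q := ⟨⟨D.c a, 1, fun h => ha (D.c_eq_one.mp h)⟩⟩
  haveI := D.two.center_nontrivial
  obtain ⟨⟨z, hz⟩, hz1⟩ := exists_ne (1 : Subgroup.center Q)
  have hz1' : z ≠ 1 := fun h => hz1 (Subtype.ext h)
  have hchar : ∀ (φ : MulAut Q) (y : Q), y ∈ Subgroup.center Q → φ y ∈ Subgroup.center Q := by
    intro φ y hy
    rw [Subgroup.mem_center_iff] at hy ⊢
    intro g
    obtain ⟨g, rfl⟩ := φ.surjective g
    rw [← map_mul, hy, map_mul]
  obtain ⟨b, hb, hbz⟩ : ∃ b, b ≠ 0 ∧ D.c b ∈ Subgroup.center Q := by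
    by_cases hfix : D.f z = 1
    · obtain ⟨b, hb⟩ := D.f_eq_one.mp hfix
      exact ⟨b, fun e => hz1' (by rw [← hb, e, c_zero]), hb.symm ▸ hz⟩
    · obtain ⟨j, b, hb, he⟩ := D.exists_fix_power _ (D.α_f z) hfix
      refine ⟨b, hb, ?_⟩
      rw [he]
      exact Subgroup.pow_mem _ (mul_mem (inv_mem hz) (hchar _ _ hz)) j
  obtain ⟨t, ht⟩ := exists_unit hb ha
  rw [← ht, ← D.c_smul]
  exact hchar _ _ hbz

theorem f_mul_c (x : Q) (a : F) : D.f (x * D.c a) = D.f x := by
  rw [f_mul, f_c, mul_one, mul_assoc, ← D.c_central a, D.c_inv, ← mul_assoc, D.c_sq, one_mul]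

theorem eq_of_f_eq {x y : Q} (h : D.f x = D.f y) : ∃ a, y = x * D.c a := by
  obtain ⟨a, ha⟩ := (D.c_fix (y * x⁻¹)).mp (by
    rw [map_mul, map_inv, D.α_eq x, D.α_eq y, h, mul_inv_rev]
    group)
  exact ⟨a, by rw [← D.c_central, ha, inv_mul_cancel_right]⟩

/-- the fixed subgroup -/
def Cs : Subgroup Q where
  carrier := {x | ∃ a, D.c a = x}
  one_mem' := ⟨0, D.c_zero⟩
  mul_mem' := by
    rintro x y ⟨a, rfl⟩ ⟨b, rfl⟩
    exact ⟨a + b, D.c_add a b⟩
  inv_mem' := by
    rintro x ⟨a, rfl⟩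
    exact ⟨a, (D.c_inv a).symm⟩

theorem mem_Cs {x : Q} : x ∈ D.Cs ↔ ∃ a, D.c a = x := Iff.rfl

instance : D.Cs.Normal := ⟨by
  rintro x ⟨a, rfl⟩ g
  exact ⟨a, by rw [← D.c_central, mul_inv_cancel_right]⟩⟩

theorem card_Cs : Nat.card D.Cs = Nat.card F :=
  (Nat.card_eq_of_bijective (fun a => (⟨D.c a, a, rfl⟩ : D.Cs))
    ⟨fun a b h => D.c_inj (congrArg Subtype.val h), fun ⟨_, a, ha⟩ => ⟨a, Subtype.ext ha⟩⟩).symm

theorem card_eq : Nat.card Q = Nat.card (Q ⧸ D.Cs) * Nat.card F := by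
  rw [← D.card_Cs]
  exact Subgroup.card_eq_card_quotient_mul_card_subgroup _

/-- Outside the fixed points some element is moved by a fixed point. -/
theorem exists_f_eq (hne : ∃ x, D.f x ≠ 1) : ∀ b, ∃ z, D.f z = D.c b := by
  obtain ⟨x, hx⟩ := hne
  obtain ⟨k, hk⟩ := D.exists_two_pow (D.f x)
  have key : ∀ (k : ℕ) (x : Q), D.f x ≠ 1 → D.f x ^ 2 ^ k = 1 →
      ∃ y a, a ≠ 0 ∧ D.f y = D.c a := by
    intro k
    induction k with
    | zero => intro x hx hk; simp at hk; exact absurd hk hx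
    | succ k ih =>
      intro x hx hk
      by_cases h2 : D.f (D.f x) = 1
      · obtain ⟨a, ha⟩ := D.f_eq_one.mp h2
        exact ⟨x, a, fun e => hx (by rw [← ha, e, c_zero]), ha.symm⟩
      · refine ih (D.f x) h2 ?_
        rw [f_f, ← pow_two, ← pow_mul, inv_pow, ← pow_succ', hk, inv_one]
  obtain ⟨y, a, ha, hy⟩ := key k x hx hk
  intro b
  by_cases hb : b = 0
  · exact ⟨1, by rw [f_one, hb, c_zero]⟩
  obtain ⟨t, ht⟩ := exists_unit ha hb
  exact ⟨D.Φ t y, by rw [f_Φ, hy, D.c_smul, ht]⟩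

theorem map_Cs (φ : MulAut Q) (h : ∀ x ∈ D.Cs, φ x ∈ D.Cs) (h' : ∀ x ∈ D.Cs, φ.symm x ∈ D.Cs) :
    D.Cs.map (φ : Q →* Q) = D.Cs := by
  refine le_antisymm ?_ fun x hx => ⟨φ.symm x, h' x hx, φ.apply_symm_apply x⟩
  rintro _ ⟨x, hx, rfl⟩
  exact h x hx

theorem Φ_Cs (t : Fˣ) : D.Cs.map (D.Φ t : Q →* Q) = D.Cs := by
  refine D.map_Cs _ ?_ ?_
  · rintro _ ⟨a, rfl⟩
    exact ⟨_, (D.c_smul t a).symm⟩
  · rintro _ ⟨a, rfl⟩
    refine ⟨((t⁻¹ : Fˣ) : F) * a, (MulEquiv.symm_apply_eq _).mpr ?_ |>.symm⟩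
    rw [D.c_smul, ← mul_assoc, Units.mul_inv, one_mul]

theorem α_Cs : D.Cs.map (D.α : Q →* Q) = D.Cs := by
  refine D.map_Cs _ ?_ ?_
  · rintro _ ⟨a, rfl⟩
    exact ⟨a, (D.α_c a).symm⟩
  · rintro _ ⟨a, rfl⟩
    exact ⟨a, ((MulEquiv.symm_apply_eq _).mpr (D.α_c a).symm).symm⟩

/-- a lift of the fixed points of the quotient -/
noncomputable def g (hne : ∃ x, D.f x ≠ 1) (b : F) : Q := (D.exists_f_eq hne b).choose

theorem f_g (hne : ∃ x, D.f x ≠ 1) (b : F) : D.f (D.g hne b) = D.c b :=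
  (D.exists_f_eq hne b).choose_spec

theorem mk_eq_of_f_eq {x y : Q} (h : D.f x = D.f y) : (x : Q ⧸ D.Cs) = y := by
  obtain ⟨a, rfl⟩ := D.eq_of_f_eq h
  exact QuotientGroup.eq.mpr ⟨a, (inv_mul_cancel_left x _).symm⟩

/-- the quotient by the fixed points -/
noncomputable def quot (hne : ∃ x, D.f x ≠ 1) : Data F (Q ⧸ D.Cs) where
  α := QuotientGroup.congr D.Cs D.Cs D.α D.α_Cs
  Φ :=
    { toFun := fun t => QuotientGroup.congr D.Cs D.Cs (D.Φ t) (D.Φ_Cs t)
      map_one' := by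
        apply MulEquiv.ext
        intro x
        induction x using QuotientGroup.induction_on with
        | H x => simp
      map_mul' := fun s t => by
        apply MulEquiv.ext
        intro x
        induction x using QuotientGroup.induction_on with
        | H x => simp }
  c b := (D.g hne b : Q ⧸ D.Cs)
  α2 x := by
    induction x using QuotientGroup.induction_on with
    | H x => simp [D.α2]
  comm t x := by
    induction x using QuotientGroup.induction_on with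
    | H x => simp [D.comm]
  c_add a b := by
    rw [← QuotientGroup.mk_mul]
    refine D.mk_eq_of_f_eq ?_
    rw [f_g, f_mul, f_g, f_g, mul_assoc _ (D.c a), D.c_central, inv_mul_cancel_left, D.c_add]
  c_inj a b h := by
    obtain ⟨e, he⟩ := QuotientGroup.eq.mp h
    apply D.c_inj
    rw [← D.f_g hne a, ← D.f_g hne b, ← D.f_mul_c (D.g hne a) e, he, mul_inv_cancel_left]
  c_fix x := by
    induction x using QuotientGroup.induction_on with
    | H x =>
      simp only [QuotientGroup.congr_mk]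
      constructor
      · intro h
        obtain ⟨a, ha⟩ := QuotientGroup.eq.mp h.symm
        exact ⟨a, D.mk_eq_of_f_eq (by rw [f_g, ha]; rfl)⟩
      · rintro ⟨b, hb⟩
        obtain ⟨e, he⟩ := QuotientGroup.eq.mp hb
        refine (QuotientGroup.eq.mpr (show _ ∈ D.Cs from ?_)).symm
        refine ⟨b, ?_⟩
        change D.c b = D.f x
        rw [← D.f_g hne b, ← D.f_mul_c _ e, he, mul_inv_cancel_left]
  c_smul t a := by
    simp only [MonoidHom.coe_mk, OneHom.coe_mk, QuotientGroup.congr_mk]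
    exact D.mk_eq_of_f_eq (by rw [f_g, f_Φ, f_g, D.c_smul])
  two := D.two.to_quotient _

theorem quot_α (hne : ∃ x, D.f x ≠ 1) (x : Q) :
    (D.quot hne).α (x : Q ⧸ D.Cs) = (D.α x : Q) := QuotientGroup.congr_mk _ _ _ D.α_Cs x

theorem quot_Φ (hne : ∃ x, D.f x ≠ 1) (t : Fˣ) (x : Q) :
    (D.quot hne).Φ t (x : Q ⧸ D.Cs) = (D.Φ t x : Q) := QuotientGroup.congr_mk _ _ _ (D.Φ_Cs t) x

theorem quot_f (hne : ∃ x, D.f x ≠ 1) (x : Q) :
    (D.quot hne).f (x : Q ⧸ D.Cs) = (D.f x : Q) := by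
  rw [f, f, quot_α]
  simp

theorem quot_c (hne : ∃ x, D.f x ≠ 1) {x : Q} {b : F} (h : D.f x = D.c b) :
    (x : Q ⧸ D.Cs) = (D.quot hne).c b := D.mk_eq_of_f_eq (by rw [h, f_g])

theorem quot_c_iff (hne : ∃ x, D.f x ≠ 1) {x : Q} {b : F} :
    (x : Q ⧸ D.Cs) = (D.quot hne).c b ↔ D.f x = D.c b := by
  refine ⟨fun h => ?_, D.quot_c hne⟩
  obtain ⟨e, he⟩ := QuotientGroup.eq.mp h.symm
  rw [← D.f_g hne b, ← D.f_mul_c (D.g hne b) e, he, mul_inv_cancel_left]

/-- restriction to an invariant subgroup -/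
noncomputable def restrict (N : Subgroup Q) (hα : ∀ x ∈ N, D.α x ∈ N)
    (hΦ : ∀ t, ∀ x ∈ N, D.Φ t x ∈ N) (hc : ∀ a, D.c a ∈ N) : Data F N where
  α :=
    { toFun := fun x => ⟨D.α x, hα x x.2⟩
      invFun := fun x => ⟨D.α x, hα x x.2⟩
      left_inv := fun x => Subtype.ext (D.α2 _)
      right_inv := fun x => Subtype.ext (D.α2 _)
      map_mul' := fun x y => Subtype.ext (map_mul D.α _ _) }
  Φ :=
    { toFun := fun t =>
        { toFun := fun x => ⟨D.Φ t x, hΦ t x x.2⟩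
          invFun := fun x => ⟨D.Φ t⁻¹ x, hΦ _ x x.2⟩
          left_inv := fun x => Subtype.ext (by
            change D.Φ t⁻¹ (D.Φ t x) = x
            rw [← MulAut.mul_apply, ← map_mul, inv_mul_cancel, map_one, MulAut.one_apply])
          right_inv := fun x => Subtype.ext (by
            change D.Φ t (D.Φ t⁻¹ x) = x
            rw [← MulAut.mul_apply, ← map_mul, mul_inv_cancel, map_one, MulAut.one_apply])
          map_mul' := fun x y => Subtype.ext (map_mul (D.Φ t) _ _) }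
      map_one' := MulEquiv.ext fun x => Subtype.ext (by
        change D.Φ 1 x = x
        rw [map_one, MulAut.one_apply])
      map_mul' := fun s t => MulEquiv.ext fun x => Subtype.ext (by
        change D.Φ (s * t) x = D.Φ s (D.Φ t x)
        rw [map_mul, MulAut.mul_apply]) }
  c a := ⟨D.c a, hc a⟩
  α2 x := Subtype.ext (D.α2 _)
  comm t x := Subtype.ext (D.comm t _)
  c_add a b := Subtype.ext (D.c_add a b)
  c_inj a b h := D.c_inj (congrArg Subtype.val h)
  c_fix x := by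
    refine ⟨fun h => ?_, fun ⟨a, ha⟩ => Subtype.ext ?_⟩
    · obtain ⟨a, ha⟩ := (D.c_fix _).mp (congrArg Subtype.val h)
      exact ⟨a, Subtype.ext ha⟩
    · exact (D.c_fix _).mpr ⟨a, congrArg Subtype.val ha⟩
  c_smul t a := Subtype.ext (D.c_smul t a)
  two := D.two.to_subgroup N

end Data

end Cfsg.Agent.Lib.SingerTwo
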