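import Mathlib.GroupTheory.QuotientGroup.Basic
import Mathlib.GroupTheory.Subgroup.Center
import Mathlib.Tactic.Abel
import Mathlib.Tactic.Group
import Mathlib.GroupTheory.Index
import Mathlib.GroupTheory.OrderOfElement
import Mathlib.Data.Fintype.Powerset
import Mathlib.Algebra.Group.Subgroup.Finite
import Mathlib.Order.Preorder.Finite

/-!
A central extension of an elementary abelian 2-group by an elementary abelian 2-group is determined
by its squaring map.
-/

set_option autoImplicit false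

namespace Cfsg.Agent.Lib.SingerTwo

/-- In a group with all squares in `D`, a subgroup `N` has a complement relative to `D`. -/
theorem exists_rel_compl {G : Type*} [Group G] [Finite G] (D N : Subgroup G)
    (hsq : ∀ x : G, x * x ∈ D) :
    ∃ K : Subgroup G, D ≤ K ∧ (∀ x ∈ K, x ∈ N → x ∈ D) ∧
      ∀ g : G, ∃ n ∈ N, ∃ k ∈ K, g = n * k := by
  classical
  haveI : Finite (Subgroup G) := Finite.of_injective (fun K => (K : Set G)) SetLike.coe_injective
  obtain ⟨K, ⟨hDK, hKN⟩, hmax⟩ :=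
    Set.Finite.exists_maximal (Set.toFinite {K : Subgroup G | D ≤ K ∧ ∀ x ∈ K, x ∈ N → x ∈ D})
      ⟨D, le_rfl, fun x hx _ => hx⟩
  refine ⟨K, hDK, hKN, fun g => ?_⟩
  by_cases hg : g ∈ K
  · exact ⟨1, N.one_mem, g, hg, (one_mul g).symm⟩
  by_contra hno
  have hcomm : ∀ x y : G, x * y * x⁻¹ * y⁻¹ ∈ D := fun x y => by
    have e : x * y * x⁻¹ * y⁻¹ = (x * x) * ((x⁻¹ * y) * (x⁻¹ * y)) * (y⁻¹ * y⁻¹) := by group
    rw [e]
    exact mul_mem (mul_mem (hsq x) (hsq _)) (hsq _)
  have hgk : ∀ k ∈ K, g * k * g⁻¹ ∈ K := fun k hk => by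
    have e : g * k * g⁻¹ = (g * k * g⁻¹ * k⁻¹) * k := by group
    rw [e]
    exact mul_mem (hDK (hcomm g k)) hk
  let K' : Subgroup G :=
    { carrier := {x | x ∈ K ∨ x * g ∈ K}
      one_mem' := Or.inl K.one_mem
      mul_mem' := by
        rintro a b (ha | ha) (hb | hb)
        · exact Or.inl (mul_mem ha hb)
        · exact Or.inr (by rw [mul_assoc]; exact mul_mem ha hb)
        · refine Or.inr ?_
          have h1 : g⁻¹ * b * g ∈ K := by
            have := hgk _ hb
            have e : g⁻¹ * b * g = (g⁻¹ * b * g * b⁻¹) * b := by group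
            rw [e]
            exact mul_mem (hDK (by simpa using hcomm g⁻¹ b)) hb
          have e : a * b * g = (a * g) * (g⁻¹ * b * g) := by group
          rw [e]
          exact mul_mem ha h1
        · refine Or.inl ?_
          have e : a * b = (a * g) * ((g⁻¹ * (b * g) * g) * (g * g)⁻¹) := by group
          rw [e]
          refine mul_mem ha (mul_mem ?_ (inv_mem (hDK (hsq g))))
          have e2 : g⁻¹ * (b * g) * g = (g⁻¹ * (b * g) * g⁻¹⁻¹ * (b * g)⁻¹) * (b * g) := by group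
          rw [e2]
          exact mul_mem (hDK (hcomm g⁻¹ (b * g))) hb
      inv_mem' := by
        rintro a (ha | ha)
        · exact Or.inl (inv_mem ha)
        · refine Or.inr ?_
          have e : a⁻¹ * g = (g * (a * g)⁻¹ * g⁻¹) * (g * g) := by group
          rw [e]
          exact mul_mem (hgk _ (inv_mem ha)) (hDK (hsq g)) }
  have hle : K ≤ K' := fun x hx => Or.inl hx
  have hK' : D ≤ K' ∧ ∀ x ∈ K', x ∈ N → x ∈ D := by
    refine ⟨hDK.trans hle, ?_⟩
    rintro x (hx | hx) hxN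
    · exact hKN x hx hxN
    · exact (hno ⟨x⁻¹, inv_mem hxN, x * g, hx, (inv_mul_cancel_left x g).symm⟩).elim
  exact hg ((hmax hK' hle) (Or.inr (by simpa using hDK (hsq g)) : g ∈ K'))

/-- Two central extensions of `V` by `F` with the same squaring map are isomorphic. -/
theorem iso_of_sq {E E' V F : Type*} [Group E] [Finite E] [Group E'] [Finite E']
    [AddCommGroup V] [AddCommGroup F] (hV : ∀ v : V, v + v = 0) (hF : ∀ a : F, a + a = 0)
    (s : V → F) (π : E → V) (π' : E' → V) (ι : F → E) (ι' : F → E')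
    (hπ : ∀ x y, π (x * y) = π x + π y) (hπ' : ∀ x y, π' (x * y) = π' x + π' y)
    (hπs : Function.Surjective π) (hπs' : Function.Surjective π')
    (hι : ∀ a b, ι (a + b) = ι a * ι b) (hι' : ∀ a b, ι' (a + b) = ι' a * ι' b)
    (hιi : Function.Injective ι) (hιi' : Function.Injective ι')
    (hc : ∀ a x, ι a * x = x * ι a) (hc' : ∀ a x, ι' a * x = x * ι' a)
    (hk : ∀ x, π x = 0 ↔ ∃ a, ι a = x) (hk' : ∀ x, π' x = 0 ↔ ∃ a, ι' a = x)
    (hs : ∀ x, x * x = ι (s (π x))) (hs' : ∀ x, x * x = ι' (s (π' x))) :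
    Nonempty (E ≃* E') := by
  have ι1 : ι 0 = 1 := by simpa using (hι 0 0).symm
  have ι1' : ι' 0 = 1 := by simpa using (hι' 0 0).symm
  have hπ1 : π 1 = 0 := (hk 1).mpr ⟨0, ι1⟩
  have hπ1' : π' 1 = 0 := (hk' 1).mpr ⟨0, ι1'⟩
  have hπi : ∀ x, π x⁻¹ = π x := fun x => by
    have h := hπ x x⁻¹
    rw [mul_inv_cancel, hπ1] at h
    have h2 := congrArg (π x + ·) h
    simpa [← add_assoc, hV] using h2.symm
  have hπi' : ∀ x, π' x⁻¹ = π' x := fun x => by
    have h := hπ' x x⁻¹
    rw [mul_inv_cancel, hπ1'] at h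
    have h2 := congrArg (π' x + ·) h
    simpa [← add_assoc, hV] using h2.symm
  have hinv : ∀ a, (ι a)⁻¹ = ι a := fun a => inv_eq_of_mul_eq_one_left (by rw [← hι, hF, ι1])
  have hinv' : ∀ a, (ι' a)⁻¹ = ι' a := fun a => inv_eq_of_mul_eq_one_left (by rw [← hι', hF, ι1'])
  let P : Subgroup (E × E') :=
    { carrier := {p | π p.1 = π' p.2}
      one_mem' := hπ1.trans hπ1'.symm
      mul_mem' := fun {p r} hp hr => by
        change π (p.1 * r.1) = π' (p.2 * r.2)
        rw [hπ, hπ']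
        exact congrArg₂ (· + ·) hp hr
      inv_mem' := fun {p} hp => by
        change π p.1⁻¹ = π' p.2⁻¹
        rw [hπi, hπi']
        exact hp }
  let D : Subgroup P :=
    { carrier := {p | ∃ a, (p : E × E') = (ι a, ι' a)}
      one_mem' := ⟨0, by rw [ι1, ι1']; rfl⟩
      mul_mem' := by
        rintro p r ⟨a, ha⟩ ⟨b, hb⟩
        exact ⟨a + b, by rw [Subgroup.coe_mul, ha, hb, hι, hι']; rfl⟩
      inv_mem' := by
        rintro p ⟨a, ha⟩
        exact ⟨a, by rw [Subgroup.coe_inv, ha, Prod.inv_mk, hinv, hinv']⟩ }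
  let N : Subgroup P := ((MonoidHom.fst E E').comp P.subtype).ker
  obtain ⟨K, hDK, hKN, hcov⟩ := exists_rel_compl D N fun p => ⟨s (π (p : E × E').1), by
    rw [Subgroup.coe_mul, Prod.ext_iff]
    refine ⟨hs _, ?_⟩
    rw [show π (p : E × E').1 = π' (p : E × E').2 from p.2]
    exact hs' _⟩
  let g : K →* E := ((MonoidHom.fst E E').comp P.subtype).comp K.subtype
  let g' : K →* E' := ((MonoidHom.snd E E').comp P.subtype).comp K.subtype
  have hinj : Function.Injective g := by
    rw [injective_iff_map_eq_one]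
    intro p hp
    obtain ⟨a, ha⟩ := hKN p p.2 hp
    have h1 : ι a = 1 := by rw [← hp]; exact (congrArg Prod.fst ha).symm
    have h2 : a = 0 := hιi (h1.trans ι1.symm)
    rw [h2, ι1, ι1'] at ha
    exact Subtype.ext (Subtype.ext ha)
  have hinj' : Function.Injective g' := by
    rw [injective_iff_map_eq_one]
    intro p hp
    have h0 : π ((p : P) : E × E').1 = 0 := by
      rw [show π ((p : P) : E × E').1 = π' ((p : P) : E × E').2 from (p : P).2,
        show ((p : P) : E × E').2 = 1 from hp, hπ1']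
    obtain ⟨a, ha⟩ := (hk _).mp h0
    let d : P := ⟨(ι a, ι' a), by
      change π (ι a) = π' (ι' a)
      rw [(hk _).mpr ⟨a, rfl⟩, (hk' _).mpr ⟨a, rfl⟩]⟩
    have hdK : d ∈ K := hDK ⟨a, rfl⟩
    obtain ⟨b, hb⟩ := hKN ((p : P) * d⁻¹) (mul_mem p.2 (inv_mem hdK)) (by
      rw [MonoidHom.mem_ker, map_mul, map_inv, mul_inv_eq_one]
      exact ha.symm)
    have h1 : (1 : E) = ι b := by
      refine Eq.trans ?_ (congrArg Prod.fst hb)
      change (1 : E) = ((p : P) : E × E').1 * (ι a)⁻¹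
      rw [ha, mul_inv_cancel]
    have h2 : b = 0 := hιi (h1.symm.trans ι1.symm)
    have h3 : ((p : P) : E × E').2 * (ι' a)⁻¹ = ι' b := congrArg Prod.snd hb
    rw [show ((p : P) : E × E').2 = 1 from hp, one_mul, hinv', h2] at h3
    have ha0 := hιi' h3
    rw [ha0, ι1] at ha
    exact Subtype.ext (Subtype.ext (Prod.ext ha.symm hp))
  have hsurj : Function.Surjective g := by
    intro e
    obtain ⟨e', he'⟩ := hπs' (π e)
    obtain ⟨m, hm, k, hk', hek⟩ := hcov ⟨(e, e'), he'.symm⟩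
    refine ⟨⟨k, hk'⟩, ?_⟩
    have h := congrArg ((MonoidHom.fst E E').comp P.subtype) hek
    rw [map_mul, MonoidHom.mem_ker.mp hm, one_mul] at h
    exact h.symm
  have hsurj' : Function.Surjective g' := by
    intro e'
    obtain ⟨e, he⟩ := hπs (π' e')
    obtain ⟨m, hm, k, hkK, hek⟩ := hcov ⟨(e, e'), he⟩
    have hm1 : ((m : P) : E × E').1 = 1 := hm
    obtain ⟨a, ha⟩ := (hk' (m : E × E').2).mp (by
      rw [← show π (m : E × E').1 = π' (m : E × E').2 from m.2, hm1, hπ1])
    let d : P := ⟨(ι a, ι' a), by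
      change π (ι a) = π' (ι' a)
      rw [(hk _).mpr ⟨a, rfl⟩, (hk' _).mpr ⟨a, rfl⟩]⟩
    refine ⟨⟨d * k, mul_mem (hDK ⟨a, rfl⟩) hkK⟩, ?_⟩
    have h := congrArg ((MonoidHom.snd E E').comp P.subtype) hek
    change ι' a * (k : E × E').2 = e'
    rw [ha]
    exact h.symm
  exact ⟨(MulEquiv.ofBijective g ⟨hinj, hsurj⟩).symm.trans
    (MulEquiv.ofBijective g' ⟨hinj', hsurj'⟩)⟩

end Cfsg.Agent.Lib.SingerTwo
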