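import Cfsg.Agent.Lib.SingerTwo.Layers

/-!
The 2-groups of `Layers.lean`: such a group is abelian or has order `q³` and a squaring map given
by a binary quadratic form.
-/

set_option autoImplicit false
set_option linter.unusedSectionVars false

namespace Cfsg.Agent.Lib.SingerTwo

universe u

variable {F : Type} [Field F] [Fintype F] [CharP F 2]

namespace Data

variable {Q : Type u} [Group Q] [Finite Q] (D : Data F Q)

/-- the squaring map is a binary quadratic form on the quotient by the fixed points -/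
def Struct : Prop :=
  ∃ (T : F) (π : Q → F × F), (∀ x y, π (x * y) = π x + π y) ∧ Function.Surjective π ∧
    (∀ x, π x = 0 ↔ ∃ a, D.c a = x) ∧
    (∀ x, x * x = D.c (T * (π x).1 ^ 2 + (π x).1 * (π x).2 + (π x).2 ^ 2)) ∧
    (∀ x, (π x).1 = 0 ↔ D.f (D.f x) = 1)

/-- inverse of `c` -/
noncomputable def cinv (x : Q) : F := Function.invFun D.c x

theorem cinv_c (a : F) : D.cinv (D.c a) = a := Function.leftInverse_invFun D.c_inj a

theorem c_cinv {x : Q} (h : ∃ a, D.c a = x) : D.c (D.cinv x) = x := by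
  obtain ⟨a, rfl⟩ := h
  rw [cinv_c]

/-- commutator coordinate -/
noncomputable def K (x y : Q) : F := D.cinv (y * x * y⁻¹ * x⁻¹)

theorem K_unique {x y : Q} {a : F} (h : y * x = D.c a * (x * y)) : D.K x y = a := by
  rw [K, h]
  have e : D.c a * (x * y) * y⁻¹ * x⁻¹ = D.c a := by group
  rw [e, cinv_c]

theorem mem_of_comm_quot (hW : ∀ a b : Q ⧸ D.Cs, a * b = b * a) (x y : Q) :
    ∃ a, y * x = D.c a * (x * y) := by
  obtain ⟨a, ha⟩ : y * x * y⁻¹ * x⁻¹ ∈ D.Cs := by
    rw [← QuotientGroup.eq_one_iff]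
    simp only [QuotientGroup.mk_mul, QuotientGroup.mk_inv]
    rw [hW (y : Q ⧸ D.Cs) x]
    group
  exact ⟨a, by rw [ha]; group⟩

variable (hK : ∀ x y : Q, ∃ a, y * x = D.c a * (x * y))

include hK in
theorem K_spec (x y : Q) : y * x = D.c (D.K x y) * (x * y) := by
  obtain ⟨a, ha⟩ := hK x y
  rwa [D.K_unique ha]

include hK in
theorem K_add_right (x y z : Q) : D.K x (y * z) = D.K x y + D.K x z := by
  apply D.K_unique
  rw [mul_assoc, D.K_spec hK x z, ← mul_assoc, ← D.c_central, D.c_add, mul_assoc, ← mul_assoc y,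
    D.K_spec hK x y]
  simp only [← mul_assoc]
  rw [← D.c_central (D.K x z) (D.c (D.K x y))]

include hK in
theorem K_add_left (x x' y : Q) : D.K (x * x') y = D.K x y + D.K x' y := by
  apply D.K_unique
  rw [← mul_assoc, D.K_spec hK x y, mul_assoc, mul_assoc x, D.K_spec hK x' y, D.c_add]
  simp only [← mul_assoc]
  rw [mul_assoc (D.c (D.K x y)) x, ← D.c_central (D.K x' y) x, ← mul_assoc]

theorem K_self (x : Q) : D.K x x = 0 :=
  D.K_unique (by rw [D.c_zero, one_mul])

theorem K_center_right {x y : Q} (hy : y ∈ Subgroup.center Q) : D.K x y = 0 :=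
  D.K_unique (by rw [D.c_zero, one_mul, Subgroup.mem_center_iff.mp hy])

theorem K_center_left {x y : Q} (hx : x ∈ Subgroup.center Q) : D.K x y = 0 :=
  D.K_unique (by rw [D.c_zero, one_mul, Subgroup.mem_center_iff.mp hx])

include hK in
theorem K_Φ (t : Fˣ) (x y : Q) : D.K (D.Φ t x) (D.Φ t y) = (t : F) * D.K x y :=
  D.K_unique (by rw [← map_mul, D.K_spec hK x y, map_mul, D.c_smul, map_mul])

include hK in
theorem comm_of_K (h : ∀ x y, D.K x y = 0) : ∀ x y : Q, x * y = y * x := fun x y => by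
  rw [D.K_spec hK x y, h, D.c_zero, one_mul]

include hK in
/-- Only one layer outside the centre: abelian. -/
theorem comm_of_top (h : Q → F) (hadd : ∀ x y, h (x * y) = h x + h y)
    (hΦ : ∀ t x, h (D.Φ t x) = (t : F) * h x) (hsurj : Function.Surjective h)
    (hker : ∀ x, h x = 0 → x ∈ Subgroup.center Q) : ∀ x y : Q, x * y = y * x := by
  choose X hX using hsurj
  have hcong : ∀ x x' y, h x = h x' → D.K x y = D.K x' y ∧ D.K y x = D.K y x' := by
    intro x x' y e
    have h0 : h (x⁻¹ * x') = 0 := by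
      have h1 := hadd x (x⁻¹ * x')
      rw [mul_inv_cancel_left, ← e] at h1
      simpa using h1.symm
    have hc := hker _ h0
    have e2 : x' = x * (x⁻¹ * x') := (mul_inv_cancel_left x x').symm
    constructor
    · rw [e2, D.K_add_left hK, D.K_center_left hc, add_zero]
    · rw [e2, D.K_add_right hK, D.K_center_right hc, add_zero]
  let B : F → F → F := fun a b => D.K (X a) (X b)
  have hB : ∀ x y, D.K x y = B (h x) (h y) := fun x y => by
    rw [(hcong x (X (h x)) y (hX _).symm).1, (hcong y (X (h y)) _ (hX _).symm).2]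
  have h0 := pairing_alt B (fun a a' b => by
      rw [← hX a, ← hX a', ← hX b, ← hadd, ← hB, ← hB, ← hB, D.K_add_left hK])
    (fun a b b' => by
      rw [← hX a, ← hX b, ← hX b', ← hadd, ← hB, ← hB, ← hB, D.K_add_right hK])
    (fun t a b ht => by
      change B ((Units.mk0 t ht : Fˣ) * a) ((Units.mk0 t ht : Fˣ) * b) =
        (Units.mk0 t ht : Fˣ) * B a b
      rw [← hX a, ← hX b, ← hΦ, ← hΦ, ← hB, ← hB, D.K_Φ hK])
    (fun a => D.K_self _)
  exact D.comm_of_K hK fun x y => by rw [hB, h0]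

omit hK

theorem f_mul_of_central {x : Q} (y : Q) (hx : D.f x ∈ Subgroup.center Q) :
    D.f (x * y) = D.f x * D.f y := by
  rw [f_mul, Subgroup.mem_center_iff.mp hx y⁻¹, inv_mul_cancel_right]

theorem central_c (a : F) : D.c a ∈ Subgroup.center Q :=
  Subgroup.mem_center_iff.mpr fun g => (D.c_central a g).symm

/-- Two layers: abelian. -/
theorem comm_of_card_quot_eq (hne : ∃ x, D.f x ≠ 1)
    (hW : Nat.card (Q ⧸ D.Cs) = Nat.card F) : ∀ x y : Q, x * y = y * x := by
  have hbij : Function.Bijective (D.quot hne).c := by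
    exact (Nat.bijective_iff_injective_and_card _).mpr ⟨(D.quot hne).c_inj, hW.symm⟩
  have hf : ∀ x, ∃ b, D.f x = D.c b := fun x => by
    obtain ⟨b, hb⟩ := hbij.2 (x : Q ⧸ D.Cs)
    exact ⟨b, (D.quot_c_iff hne).mp hb.symm⟩
  choose h hh using hf
  refine D.comm_of_top (D.mem_of_comm_quot fun a b => ?_) h (fun x y => D.c_inj ?_)
    (fun t x => D.c_inj ?_) (fun b => ?_) (fun x hx => ?_)
  · obtain ⟨a, rfl⟩ := hbij.2 a
    obtain ⟨b, rfl⟩ := hbij.2 b
    exact (D.quot hne).c_central _ _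
  · rw [← hh, D.c_add, ← hh, ← hh, D.f_mul_of_central _ (hh x ▸ D.central_c _)]
  · rw [← hh, f_Φ, hh, D.c_smul]
  · obtain ⟨z, hz⟩ := D.exists_f_eq hne b
    exact ⟨z, D.c_inj (by rw [← hh, hz])⟩
  · obtain ⟨a, rfl⟩ := D.f_eq_one.mp (show D.f x = 1 by rw [hh, hx, c_zero])
    exact D.central_c a

/-- On the second layer squaring agrees with `f`. -/
theorem sq_eq_f (hy : ∃ y, D.f (D.f y) ≠ 1 ∧ D.f (D.f (D.f y)) = 1) {z : Q} {b : F}
    (hz : D.f z = D.c b) : z * z = D.c b := by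
  obtain ⟨y, h1, h2⟩ := hy
  obtain ⟨b0, hb0⟩ := D.f_eq_one.mp h2
  have hb00 : b0 ≠ 0 := fun e => h1 (by rw [← hb0, e, c_zero])
  have hu : D.f y * D.f y = D.c b0 := by
    rw [f_f, ← mul_inv_rev] at hb0
    rw [eq_inv_iff_mul_eq_one, ← eq_inv_iff_mul_eq_one] at hb0
    rw [← D.c_inv b0, hb0, inv_inv]
  by_cases hb : b = 0
  · rw [hb, c_zero] at hz
    obtain ⟨a, rfl⟩ := D.f_eq_one.mp hz
    rw [hb, c_sq, c_zero]
  obtain ⟨t, ht⟩ := exists_unit hb00 hb
  obtain ⟨a, rfl⟩ := D.eq_of_f_eq (x := D.Φ t (D.f y)) (y := z)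
    (by rw [f_Φ, ← hb0, D.c_smul, ht, hz])
  rw [mul_assoc, ← mul_assoc (D.c a), D.c_central a (D.Φ t (D.f y)), mul_assoc, D.c_sq, mul_one,
    ← map_mul, hu, D.c_smul, ht]

theorem card_F_pos : 1 < Nat.card F := by
  rw [Nat.card_eq_fintype_card]
  exact Fintype.one_lt_card

theorem odd_units_sum [DecidableEq F] : ((Fintype.card Fˣ : ℕ) : F) = 1 := by
  classical
  rw [Fintype.card_units, Nat.cast_sub Fintype.card_pos, FiniteField.cast_card_eq_zero,
    Nat.cast_one, zero_sub, CharTwo.neg_eq]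

/-- Three layers. -/
theorem struct_of_card (hne : ∃ x, D.f x ≠ 1) (hW : ∀ a b : Q ⧸ D.Cs, a * b = b * a)
    (hc : Nat.card (Q ⧸ D.Cs) = Nat.card F ^ 2) (hnc : ¬ ∀ x y : Q, x * y = y * x) :
    D.Struct := by
  classical
  set D' := D.quot hne with hD'
  have hK := D.mem_of_comm_quot hW
  have hfhom : ∀ a b, D'.f (a * b) = D'.f a * D'.f b := fun a b =>
    D'.f_mul_of_central b (Subgroup.mem_center_iff.mpr fun g => hW g _)
  let ε : (Q ⧸ D.Cs) →* (Q ⧸ D.Cs) := MonoidHom.mk' D'.f hfhom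
  have hker : ε.ker = D'.Cs := Subgroup.ext fun x => D'.f_eq_one
  have hq := card_F_pos (F := F)
  have hrc : Nat.card ε.range = Nat.card F := by
    have h := Subgroup.card_eq_card_quotient_mul_card_subgroup ε.ker
    rw [Nat.card_congr (QuotientGroup.quotientKerEquivRange ε).toEquiv, hker, D'.card_Cs, hc,
      pow_two] at h
    exact (Nat.eq_of_mul_eq_mul_right (by omega) h).symm
  have hrange : ε.range = D'.Cs := by
    symm
    refine Subgroup.eq_of_le_of_card_ge ?_ (by rw [hrc, D'.card_Cs])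
    haveI : Nontrivial ε.range := Finite.one_lt_card_iff_nontrivial.mp (by omega)
    obtain ⟨⟨e, w, rfl⟩, he⟩ := exists_ne (1 : ε.range)
    obtain ⟨j, a, ha, hj⟩ := D'.exists_fix_power _ (D'.α_f w) (fun h => he (Subtype.ext h))
    rintro _ ⟨b, rfl⟩
    by_cases hb : b = 0
    · rw [hb, D'.c_zero]; exact one_mem _
    obtain ⟨t, ht⟩ := exists_unit ha hb
    refine ⟨D'.Φ t (w ^ j), ?_⟩
    change D'.f _ = _
    rw [D'.f_Φ, show D'.f (w ^ j) = D'.f w ^ j from map_pow ε w j, ← hj, D'.c_smul, ht]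
  have hff : ∀ x, ∃ b, D.f (D.f x) = D.c b := fun x => by
    have h : ε (x : Q ⧸ D.Cs) ∈ D'.Cs := hrange ▸ ⟨_, rfl⟩
    obtain ⟨b, hb⟩ := h
    refine ⟨b, (D.quot_c_iff hne).mp ?_⟩
    rw [← hD', hb]
    exact (D.quot_f hne x).symm
  choose h hh using hff
  have hmkf : ∀ x, ((D.f x : Q) : Q ⧸ D.Cs) = D'.c (h x) := fun x => D.quot_c hne (hh x)
  have hadd : ∀ x y, h (x * y) = h x + h y := fun x y => D'.c_inj (by
    rw [D'.c_add, ← hmkf, ← hmkf, ← hmkf, ← D.quot_f hne, ← D.quot_f hne, ← D.quot_f hne,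
      QuotientGroup.mk_mul, ← hD', hfhom])
  have hhΦ : ∀ t x, h (D.Φ t x) = (t : F) * h x := fun t x => D.c_inj (by
    rw [← hh, f_Φ, f_Φ, hh, D.c_smul])
  have hsurj : Function.Surjective h := fun b => by
    obtain ⟨w, hw⟩ : D'.c b ∈ ε.range := hrange.symm ▸ ⟨b, rfl⟩
    induction w using QuotientGroup.induction_on with
    | H x =>
      refine ⟨x, D'.c_inj ?_⟩
      rw [← hmkf, ← D.quot_f hne, ← hD']
      exact hw
  have hh0 : ∀ x, h x = 0 ↔ ∃ b, D.f x = D.c b := fun x => by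
    rw [← D.c_eq_one, ← hh, D.f_eq_one]
    exact ⟨fun ⟨b, hb⟩ => ⟨b, hb.symm⟩, fun ⟨b, hb⟩ => ⟨b, hb.symm⟩⟩
  -- the quotient is elementary abelian
  have helem : ∀ w : Q ⧸ D.Cs, w * w = 1 := by
    intro w
    induction w using QuotientGroup.induction_on with
    | H x =>
      by_contra hx
      apply hnc
      refine D.comm_of_top hK h hadd hhΦ hsurj fun z hz => ?_
      obtain ⟨b, hb⟩ := (hh0 z).mp hz
      have hxx : h (x * x) = 0 := by rw [hadd, CharTwo.add_self_eq_zero]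
      obtain ⟨b0, hb0⟩ := (hh0 _).mp hxx
      have hsqc : ∀ y : Q, y * y ∈ Subgroup.center Q := fun y => Subgroup.mem_center_iff.mpr fun g => by
        rw [D.K_spec hK (y * y) g, D.K_add_left hK, CharTwo.add_self_eq_zero, c_zero, one_mul]
      by_cases hb' : b = 0
      · obtain ⟨a, rfl⟩ := D.f_eq_one.mp (show D.f z = 1 by rw [hb, hb', c_zero])
        exact D.central_c a
      have hb00 : b0 ≠ 0 := fun e => hx (by
        rw [← QuotientGroup.mk_mul, QuotientGroup.eq_one_iff]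
        exact D.f_eq_one.mp (by rw [hb0, e, c_zero]))
      obtain ⟨t, ht⟩ := exists_unit hb00 hb'
      obtain ⟨a, rfl⟩ := D.eq_of_f_eq (x := D.Φ t x * D.Φ t x) (y := z)
        (by rw [← map_mul, f_Φ, hb0, D.c_smul, ht, hb])
      exact mul_mem (hsqc _) (D.central_c a)
  -- an equivariant retraction
  obtain ⟨L, -, hLN, hcov⟩ := exists_rel_compl (⊥ : Subgroup (Q ⧸ D.Cs)) D'.Cs
    (fun w => Subgroup.mem_bot.mpr (helem w))
  have hdec : ∀ w : Q ⧸ D.Cs, ∃ b, ∃ k ∈ L, w = D'.c b * k := fun w => by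
    obtain ⟨_, ⟨b, rfl⟩, k, hk, he⟩ := hcov w
    exact ⟨b, k, hk, he⟩
  choose r0 k0 hk0 hr0 using hdec
  have huniq : ∀ w b k, k ∈ L → w = D'.c b * k → r0 w = b := by
    intro w b k hk he
    have e : D'.c (r0 w + b) = k * (k0 w)⁻¹ := by
      rw [eq_mul_inv_iff_mul_eq, add_comm, D'.c_add, mul_assoc, ← hr0 w, he, ← mul_assoc,
        D'.c_sq, one_mul]
    have h1 : D'.c (r0 w + b) = 1 := Subgroup.mem_bot.mp (hLN _
      (e ▸ mul_mem hk (inv_mem (hk0 w))) ⟨_, rfl⟩)
    exact CharTwo.add_eq_zero.mp (D'.c_eq_one.mp h1)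
  have r0add : ∀ v w, r0 (v * w) = r0 v + r0 w := fun v w => by
    refine huniq _ _ (k0 v * k0 w) (mul_mem (hk0 v) (hk0 w)) ?_
    conv_lhs => rw [hr0 v, hr0 w]
    rw [D'.c_add, mul_assoc, ← mul_assoc (k0 v), hW (k0 v) (D'.c (r0 w))]
    simp only [mul_assoc]
  have r0c : ∀ b, r0 (D'.c b) = b := fun b => huniq _ _ 1 (one_mem _) (mul_one _).symm
  let r : Q → F := fun x => ∑ t : Fˣ, (t : F) * r0 (D'.Φ t⁻¹ (x : Q ⧸ D.Cs))
  have radd : ∀ x y, r (x * y) = r x + r y := fun x y => by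
    simp only [r, QuotientGroup.mk_mul, map_mul, r0add, mul_add, Finset.sum_add_distrib]
  have rΦ : ∀ s x, r (D.Φ s x) = (s : F) * r x := fun s x => by
    simp only [r, ← D.quot_Φ hne, ← hD', Finset.mul_sum]
    refine (Fintype.sum_equiv (Equiv.mulLeft s) _ _ fun t => ?_).symm
    rw [← MulAut.mul_apply, ← map_mul, Equiv.coe_mulLeft, mul_inv_rev,
      inv_mul_cancel_right, Units.val_mul, mul_assoc]
  have rc : ∀ {x b}, D.f x = D.c b → r x = b := fun {x b} hx => by
    simp only [r, D.quot_c hne hx, ← hD', D'.c_smul, r0c, ← mul_assoc, ← Units.val_mul,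
      mul_inv_cancel, Units.val_one, one_mul, Finset.sum_const, Finset.card_univ, nsmul_eq_mul,
      odd_units_sum]
  have r1 : ∀ a, r (D.c a) = 0 := fun a => rc (by rw [f_c, c_zero])
  have h1 : ∀ a, h (D.c a) = 0 := fun a => (hh0 _).mpr ⟨0, by rw [f_c, c_zero]⟩
  let p : Q → F × F := fun x => (h x, r x)
  have padd : ∀ x y, p (x * y) = p x + p y := fun x y => Prod.ext (hadd x y) (radd x y)
  have pker : ∀ x, p x = 0 ↔ ∃ a, D.c a = x := fun x => by
    constructor
    · intro e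
      obtain ⟨b, hb⟩ := (hh0 x).mp (congrArg Prod.fst e)
      have hb0 : b = 0 := (rc hb).symm.trans (congrArg Prod.snd e)
      exact D.f_eq_one.mp (by rw [hb, hb0, c_zero])
    · rintro ⟨a, rfl⟩
      exact Prod.ext (h1 a) (r1 a)
  have psurj : Function.Surjective p := by
    rintro ⟨a, b⟩
    obtain ⟨x, hx⟩ := hsurj a
    obtain ⟨z, hz⟩ := D.exists_f_eq hne (b + r x)
    refine ⟨x * z, Prod.ext ?_ ?_⟩
    · change h (x * z) = a
      rw [hadd, (hh0 z).mpr ⟨_, hz⟩, hx, add_zero]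
    · change r (x * z) = b
      rw [radd, rc hz, add_comm b, ← add_assoc, CharTwo.add_self_eq_zero, zero_add]
  have pcongr : ∀ x y, p x = p y → ∃ a, y = x * D.c a := fun x y e => by
    have h0 : p (x⁻¹ * y) = 0 := by
      have h2 := padd x (x⁻¹ * y)
      rw [mul_inv_cancel_left, ← e] at h2
      simpa using h2.symm
    obtain ⟨a, ha⟩ := (pker _).mp h0
    exact ⟨a, by rw [ha, mul_inv_cancel_left]⟩
  have hsqC : ∀ x, ∃ a, x * x = D.c a := fun x => by
    obtain ⟨a, ha⟩ := (QuotientGroup.eq_one_iff _).mp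
      ((QuotientGroup.mk_mul D.Cs x x).trans (helem _))
    exact ⟨a, ha.symm⟩
  choose S hS using hsqC
  have Sadd : ∀ x y, S (x * y) = S x + S y + D.K x y := fun x y => D.c_inj (by
    rw [← hS, D.c_add, D.c_add, ← hS, ← hS, mul_assoc x y, ← mul_assoc y x y, D.K_spec hK x y,
      ← D.c_central (D.K x y) (x * x * (y * y))]
    simp only [← mul_assoc]
    rw [← D.c_central (D.K x y) x])
  have Sc : ∀ a, S (D.c a) = 0 := fun a => D.c_inj (by rw [← hS, c_sq, c_zero])
  have Scongr : ∀ x y, p x = p y → S x = S y := fun x y e => by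
    obtain ⟨a, rfl⟩ := pcongr x y e
    rw [Sadd, Sc, D.K_center_right (D.central_c a), add_zero, add_zero]
  have Kcongr : ∀ x y z, p x = p y → D.K x z = D.K y z ∧ D.K z x = D.K z y := fun x y z e => by
    obtain ⟨a, rfl⟩ := pcongr x y e
    constructor
    · rw [D.K_add_left hK, D.K_center_left (D.central_c a), add_zero]
    · rw [D.K_add_right hK, D.K_center_right (D.central_c a), add_zero]
  have SΦ : ∀ t x, S (D.Φ t x) = (t : F) * S x := fun t x => D.c_inj (by
    rw [← hS, ← map_mul, hS, D.c_smul])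
  choose X hX using psurj
  let B : F × F → F × F → F := fun v w => D.K (X v) (X w)
  have hB : ∀ x y, D.K x y = B (p x) (p y) := fun x y => by
    rw [(Kcongr x (X (p x)) y (hX _).symm).1, (Kcongr y (X (p y)) _ (hX _).symm).2]
  have Badl : ∀ u v w, B (u + v) w = B u w + B v w := fun u v w => by
    rw [← hX u, ← hX v, ← hX w, ← padd, ← hB, ← hB, ← hB, D.K_add_left hK]
  have Badr : ∀ u v w, B u (v + w) = B u v + B u w := fun u v w => by
    rw [← hX u, ← hX v, ← hX w, ← padd, ← hB, ← hB, ← hB, D.K_add_right hK]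
  have hpΦ : ∀ (t : Fˣ) x, p (D.Φ t x) = ((t : F) * (p x).1, (t : F) * (p x).2) := fun t x =>
    Prod.ext (hhΦ t x) (rΦ t x)
  have Bsm : ∀ (t a b a' b' : F), t ≠ 0 →
      B (t * a, t * b) (t * a', t * b') = t * B (a, b) (a', b') := fun t a b a' b' ht => by
    have e1 := hpΦ (Units.mk0 t ht) (X (a, b))
    have e2 := hpΦ (Units.mk0 t ht) (X (a', b'))
    rw [hX, Units.val_mk0] at e1 e2
    rw [← e1, ← e2, ← hB, D.K_Φ hK, Units.val_mk0]
  have B11 : ∀ a a', B (a, 0) (a', 0) = 0 := pairing_alt (fun a a' => B (a, 0) (a', 0))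
    (fun a a' b => by rw [← Badl, Prod.mk_add_mk, add_zero])
    (fun a b b' => by rw [← Badr, Prod.mk_add_mk, add_zero])
    (fun t a b ht => by simpa using Bsm t a 0 b 0 ht) (fun a => D.K_self _)
  have B22 : ∀ a a', B (0, a) (0, a') = 0 := pairing_alt (fun a a' => B (0, a) (0, a'))
    (fun a a' b => by rw [← Badl, Prod.mk_add_mk, add_zero])
    (fun a b b' => by rw [← Badr, Prod.mk_add_mk, add_zero])
    (fun t a b ht => by simpa using Bsm t 0 a 0 b ht) (fun a => D.K_self _)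
  have B12 := pairing_sq (fun a b => B (a, 0) (0, b))
    (fun a a' b => by rw [← Badl, Prod.mk_add_mk, add_zero])
    (fun a b b' => by rw [← Badr, Prod.mk_add_mk, add_zero])
    (fun t a b ht => by simpa using Bsm t a 0 0 b ht)
  -- the squares of the two kinds of elements
  have SX : ∀ u v, S (X (u + v)) = S (X u) + S (X v) + B u v := fun u v => by
    rw [Scongr (X (u + v)) (X u * X v) (by rw [padd, hX, hX, hX]), Sadd]
  have S1 : ∀ a, S (X (a, 0)) = a * S (X (1, 0)) := fun a => by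
    by_cases ha : a = 0
    · rw [ha, zero_mul, Scongr (X (0, 0)) (D.c 0) (by rw [hX, (pker _).mpr ⟨0, rfl⟩]; rfl), Sc]
    · rw [Scongr (X (a, 0)) (D.Φ (Units.mk0 a ha) (X (1, 0)))
        (by rw [hpΦ, hX, hX, Units.val_mk0, mul_one, mul_zero]), SΦ, Units.val_mk0]
  have hy : ∃ y, D.f (D.f y) ≠ 1 ∧ D.f (D.f (D.f y)) = 1 := by
    refine ⟨X (1, 0), ?_, ?_⟩
    · rw [hh, Ne, c_eq_one]
      rw [show h (X (1, 0)) = 1 from congrArg Prod.fst (hX _)]
      exact one_ne_zero
    · rw [hh (X (1, 0)), f_c]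
  have S2 : ∀ b, S (X (0, b)) = b := fun b => by
    obtain ⟨b', hb'⟩ := (hh0 (X (0, b))).mp (congrArg Prod.fst (hX _))
    have e : b' = b := (rc hb').symm.trans (congrArg Prod.snd (hX _))
    subst e
    exact D.c_inj (by rw [← hS, D.sq_eq_f hy hb'])
  set T := S (X (1, 0)) with hT
  have SX' : ∀ a b, S (X (a, b)) = a * T + b + B (a, 0) (0, b) := fun a b => by
    have e := SX (a, 0) (0, b)
    rwa [Prod.mk_add_mk, add_zero, zero_add, S1, S2] at e
  have hκ : B (1, 0) (0, 1) = 1 := by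
    have e1 : S (D.α (X (1, 0))) = T := D.c_inj (by rw [← hS, ← map_mul, hS, α_c])
    have e2 : p (D.α (X (1, 0))) = (1, 1) := by
      obtain ⟨e, he⟩ : ∃ e, D.f (D.f (X (1, 0))) = D.c e := ⟨_, hh _⟩
      have he1 : e = 1 := D.c_inj (by
        rw [← he, hh, show h (X (1, 0)) = 1 from congrArg Prod.fst (hX _)])
      rw [α_eq, padd, hX]
      have e3 : p (D.f (X (1, 0))) = (0, 1) := Prod.ext ((hh0 _).mpr ⟨_, he⟩) ((rc he).trans he1)
      rw [e3, Prod.mk_add_mk, add_zero, zero_add]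
    rw [Scongr _ (X (1, 1)) (by rw [e2, hX]), SX', one_mul] at e1
    linear_combination e1 + (-1 : F) * CharTwo.two_eq_zero (R := F)
  haveI : PerfectRing F 2 := inferInstance
  let σ : F ≃+* F := (frobeniusEquiv F 2).symm
  have hσ : ∀ a, σ a ^ 2 = a := fun a => frobeniusEquiv_symm_pow_p F 2 a
  refine ⟨T, fun x => (σ (h x), σ (r x)), fun x y => ?_, ?_, fun x => ?_, fun x => ?_, fun x => ?_⟩
  · simp only [hadd, radd, map_add, Prod.mk_add_mk]
  · rintro ⟨a, b⟩
    refine ⟨X (a ^ 2, b ^ 2), ?_⟩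
    have e := hX (a ^ 2, b ^ 2)
    simp only [show h (X (a ^ 2, b ^ 2)) = a ^ 2 from congrArg Prod.fst e,
      show r (X (a ^ 2, b ^ 2)) = b ^ 2 from congrArg Prod.snd e]
    exact Prod.ext (CharTwo.sq_injective (hσ _)) (CharTwo.sq_injective (hσ _))
  · rw [← pker, Prod.mk_eq_zero, Prod.mk_eq_zero, map_eq_zero_iff σ σ.injective,
      map_eq_zero_iff σ σ.injective]
  · have e : B (h x, 0) (0, r x) = σ (h x) * σ (r x) := CharTwo.sq_injective (by
      change B (h x, 0) (0, r x) ^ 2 = (σ (h x) * σ (r x)) ^ 2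
      rw [B12, mul_pow, hσ, hσ, hκ, one_pow, one_mul])
    rw [hS, Scongr x (X (h x, r x)) (hX _).symm, SX', e, hσ, hσ]
    congr 1
    ring
  · rw [map_eq_zero_iff σ σ.injective, hh, c_eq_one]

end Data

end Cfsg.Agent.Lib.SingerTwo
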